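import Cfsg.Agent.H2.Fi23C.Basic
import Cfsg.Agent.H38.U6C.Main
import Cfsg.Agent.H66.Inverted
import Cfsg.Agent.CompBasic

/-!
Towards S3233: weak closure of `z` when everything is dead, and normality of `W` otherwise.
-/

set_option autoImplicit false

namespace H66.Fi23C

open H39.Fi22C H2.Fi23C H38.U6C

section basics

variable {G : Type*} [Group G] {F : Type*} [Field F] [Fintype F] {z a b c : G}
  {J K₀ : Subgroup G} {π : ↥K₀ →* Cfsg.PSp 2 F}

/-- The four-group as a subgroup. -/
def fourW (ha : a * a = 1) (hb : b * b = 1) (hab : Commute a b) : Subgroup G where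
  carrier := {p | InW a b p}
  one_mem' := Or.inl rfl
  mul_mem' := by
    have hab' : a * b = b * a := hab
    have h1 : a * (a * b) = b := by rw [← mul_assoc, ha, one_mul]
    have h2 : b * (a * b) = a := by rw [hab', ← mul_assoc, hb, one_mul]
    have h3 : a * b * a = b := by rw [hab', mul_assoc, ha, mul_one]
    have h4 : a * b * b = a := by rw [mul_assoc, hb, mul_one]
    have h5 : a * b * (a * b) = 1 := by rw [← mul_assoc, h3, hb]
    rintro p q (rfl | rfl | rfl | rfl) (rfl | rfl | rfl | rfl) <;>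
      simp [InW, ha, hb, h1, h2, h3, h4, h5, ← hab']
  inv_mem' := by
    rintro p (rfl | rfl | rfl | rfl)
    · exact Or.inl inv_one
    · exact Or.inr (Or.inl (inv_eq_of_mul_eq_one_right ha))
    · exact Or.inr (Or.inr (Or.inl (inv_eq_of_mul_eq_one_right hb)))
    · refine Or.inr (Or.inr (Or.inr ?_))
      rw [mul_inv_rev, inv_eq_of_mul_eq_one_right hb, inv_eq_of_mul_eq_one_right ha]
      exact hab.eq.symm

theorem isA_of_inW {p : G} (h : InW a b p) (h1 : p ≠ 1) : IsA a b p := by
  rcases h with h | h | h | h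
  · exact absurd h h1
  · exact Or.inl h
  · exact Or.inr (Or.inl h)
  · exact Or.inr (Or.inr h)

theorem inW_of_isA {p : G} (h : IsA a b p) : InW a b p := Or.inr h

theorem normW_iff [Finite G] (ha : a * a = 1) (hb : b * b = 1) (hab : Commute a b) {g : G} :
    NormW a b g ↔ g ∈ Subgroup.normalizer (fourW ha hb hab : Set G) := by
  refine ⟨fun h => Cfsg.Comp.mem_normalizer_of_map_conj_eq ?_,
    fun h w hw => (Subgroup.mem_normalizer_iff.1 h w).1 hw⟩
  refine Subgroup.eq_of_le_of_card_ge ?_ ?_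
  · rintro _ ⟨w, hw, rfl⟩
    exact h w hw
  · rw [Subgroup.card_map_of_injective (MulAut.conj g).injective]

variable (S : Setup4 z a b c J K₀ π)
include S

theorem commute_za : Commute z a :=
  (Subgroup.mem_centralizer_singleton_iff.1 (S.le_cent (S.J_le S.a_mem))).symm

theorem commute_zb : Commute z b :=
  (Subgroup.mem_centralizer_singleton_iff.1 (S.le_cent (S.J_le S.b_mem))).symm

theorem commute_zW {w : G} (h : InW a b w) : Commute z w := by
  rcases h with rfl | rfl | rfl | rfl
  · exact Commute.one_right _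
  · exact commute_za S
  · exact commute_zb S
  · exact (commute_za S).mul_right (commute_zb S)

theorem ab_ne_one : a * b ≠ 1 := fun h =>
  S.b_ne.2.2.1 (mul_left_cancel (h.trans S.a_sq.symm))

theorem isA_ne_one {e : G} (h : IsA a b e) : e ≠ 1 := by
  rcases h with rfl | rfl | rfl
  · exact S.a_ne.1
  · exact S.b_ne.1
  · exact ab_ne_one S

/-- Every involution of `W` is a conjugate of `a` in `C(z)`. -/
theorem exists_rot {e : G} (he : IsA a b e) :
    ∃ x ∈ Subgroup.centralizer ({z} : Set G), x * a * x⁻¹ = e := by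
  rcases he with rfl | rfl | rfl
  · exact ⟨1, one_mem _, by simp⟩
  · exact ⟨c, S.c_mem, S.c_a⟩
  · refine ⟨c * c, mul_mem S.c_mem S.c_mem, ?_⟩
    calc c * c * a * (c * c)⁻¹ = c * (c * a * c⁻¹) * c⁻¹ := by group
      _ = a * b := by rw [S.c_a, S.c_b]

end basics

/-- If everything is dead, `z` is weakly closed. -/
theorem allDead.{u, v} : AllDeadStmt.{u, v} := by
  intro G _ _ F _ _ z a b c J K₀ π S hdead hker p hp hconj
  obtain ⟨k, rfl⟩ := isConj_iff.1 hconj
  have hkz : Commute (k * z * k⁻¹) z := Subgroup.mem_centralizer_singleton_iff.1 hp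
  have hka : IsA a b (k * a * k⁻¹) := isA_of_inW (hker k hkz a (Or.inr (Or.inl rfl)))
    (fun h => S.a_ne.1 (conj_eq_one_iff.1 h))
  obtain ⟨x, hx, hxa⟩ := exists_rot S hka
  have hxz : x * z = z * x := Subgroup.mem_centralizer_singleton_iff.1 hx
  have h1 : Commute (x⁻¹ * k) a := by
    have : x⁻¹ * k * a * (x⁻¹ * k)⁻¹ = a := by
      calc x⁻¹ * k * a * (x⁻¹ * k)⁻¹ = x⁻¹ * (k * a * k⁻¹) * x := by group
        _ = a := by rw [← hxa]; group
    exact mul_inv_eq_iff_eq_mul.1 this
  have hxi : Commute x⁻¹ z := (show Commute x z from hxz).inv_left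
  have h2 : Commute (x⁻¹ * k * z * (x⁻¹ * k)⁻¹) z := by
    rw [show x⁻¹ * k * z * (x⁻¹ * k)⁻¹ = x⁻¹ * (k * z * k⁻¹) * x by group]
    exact (hxi.mul_left hkz).mul_left hxz
  have h3 := (hdead a (Or.inl rfl)).1 _ h1 h2
  calc k * z * k⁻¹ = x * (x⁻¹ * k * z * (x⁻¹ * k)⁻¹) * x⁻¹ := by group
    _ = z := by rw [h3, hxz, mul_inv_cancel_right]

section normal

variable {G : Type*} [Group G] [Finite G]

/-- Two involutions with product of odd order are conjugate. -/
theorem exists_conj_of_odd {p q : G} (hp : p * p = 1) (hq : q * q = 1)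
    (h : Odd (orderOf (p * q))) : ∃ r : G, r * q * r⁻¹ = p := by
  obtain ⟨r, hr, hr2⟩ := H66.exists_sqrt_of_odd h
  refine ⟨r, ?_⟩
  have hinv : q * (p * q) * q⁻¹ = (p * q)⁻¹ := by
    rw [mul_inv_rev, inv_eq_of_mul_eq_one_right hp, inv_eq_of_mul_eq_one_right hq, mul_assoc,
      mul_assoc, hq, mul_one]
  have h2 := H66.inverted_of_mem_zpowers hinv hr
  have hqi : q⁻¹ = q := inv_eq_of_mul_eq_one_right hq
  calc r * q * r⁻¹ = r * (q * (q * r * q⁻¹)) := by rw [h2]; group
    _ = r * (q * q) * r * q := by rw [hqi]; group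
    _ = p := by rw [hq, mul_one, hr2, mul_assoc, hq, mul_one]

end normal

/-- The conjugates of `z` and of `a` make `W` normal. -/
theorem normalW.{u, v} : NormalWStmt.{u, v} := by
  intro G _ _ F _ _ z a b c J K₀ π S hfus hdead hca hker
  set N := Subgroup.normalizer (fourW S.a_sq S.b_sq S.ab_comm : Set G) with hN
  have hN' : ∀ g, NormW a b g ↔ g ∈ N := fun g => normW_iff S.a_sq S.b_sq S.ab_comm
  have hzW : ∀ g, g ∈ Subgroup.centralizer ({z} : Set G) → g ∈ N := fun g hg =>
    (hN' g).1 (S.conj_W g hg)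
  -- centralisers of the involutions of `W`
  have hce : ∀ e, IsA a b e → ∀ g : G, Commute g e → g ∈ N := by
    intro e he g hg
    obtain ⟨x, hx, rfl⟩ := exists_rot S he
    have h1 : Commute (x⁻¹ * g * x) a := by
      have := hg.map (MulAut.conj x⁻¹).toMonoidHom
      simpa [mul_assoc] using this
    have h2 := mul_mem (mul_mem (hzW x hx) ((hN' _).1 (hca _ h1))) (inv_mem (hzW x hx))
    rwa [show x * (x⁻¹ * g * x) * x⁻¹ = g by group] at h2
  -- conjugates of `a` commuting with `z`
  have hone : ∀ g, Commute (g * a * g⁻¹) z → InW a b (g * a * g⁻¹) := by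
    intro g hg
    obtain ⟨k', hk1, hk2⟩ := hfus.conj_into g a (Or.inr (Or.inl (Or.inl rfl))) hg
    rw [← hk1]
    exact hker k' hk2 a (Or.inr (Or.inl rfl))
  have hback : ∀ m u : G, m ∈ N → InW a b (m * u * m⁻¹) → InW a b u := fun m u hm h =>
    (Subgroup.mem_normalizer_iff.1 hm u).2 h
  have hself : ∀ g : G, g * a * g⁻¹ * (g * a * g⁻¹) = 1 := fun g => by
    rw [show g * a * g⁻¹ * (g * a * g⁻¹) = g * (a * a) * g⁻¹ by group, S.a_sq]; group
  have hne : ∀ g : G, g * a * g⁻¹ ≠ 1 := fun g h => S.a_ne.1 (conj_eq_one_iff.1 h)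
  -- conjugates of `a` commuting with an involution of `W`
  have htwo : ∀ g q, IsA a b q → Commute (g * a * g⁻¹) q → InW a b (g * a * g⁻¹) := by
    intro g q hq hc
    obtain ⟨m, hm1, hm2⟩ := hfus.sylow q _ (Or.inl hq) (hself g) hc
    refine hback m _ (hce q hq m hm1) ?_
    rw [show m * (g * a * g⁻¹) * m⁻¹ = (m * g) * a * (m * g)⁻¹ by group] at hm2 ⊢
    exact hone _ hm2
  -- centralisers of the involutions of `zW`
  have hcd : ∀ e, IsA a b e → ∀ g : G, Commute g (e * z) → g ∈ N := by
    intro e he g hg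
    set D := Subgroup.centralizer ({e * z} : Set G) with hD
    have hmem : ∀ {x : G}, Commute x (e * z) → x ∈ D := fun h =>
      Subgroup.mem_centralizer_singleton_iff.2 h.eq
    have hWe : ∀ {w}, InW a b w → Commute w (e * z) := by
      intro w hw
      refine Commute.mul_right ?_ (commute_zW S hw).symm
      have := S.ab_comm
      rcases hw with rfl | rfl | rfl | rfl <;> rcases he with rfl | rfl | rfl <;>
        simp [Commute.refl, this, this.symm, Commute.mul_left, Commute.mul_right]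
    have hzd : Commute z (e * z) := (commute_zW S (inW_of_isA he)).mul_right (Commute.refl z)
    set z' : ↥D := ⟨z, hmem hzd⟩
    have hz' : orderOf z' = 2 := by
      haveI : Fact (Nat.Prime 2) := ⟨Nat.prime_two⟩
      refine orderOf_eq_prime (Subtype.ext ?_) fun h => S.ne_one (congrArg Subtype.val h)
      show z ^ 2 = 1
      rw [pow_two, S.sq]
    have hwc : WC z' := by
      intro p hp hconj
      obtain ⟨k, rfl⟩ := isConj_iff.1 hconj
      refine Subtype.ext ((hdead e he).1 k (Subgroup.mem_centralizer_singleton_iff.1 k.2) ?_)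
      exact congrArg Subtype.val (Subgroup.mem_centralizer_singleton_iff.1 hp)
    have htop := mul_core_of_wc hz' hwc
    suffices h : (⊤ : Subgroup ↥D) ≤ N.subgroupOf D from
      h (Subgroup.mem_top (⟨g, hmem hg⟩ : ↥D))
    rw [← htop]
    refine sup_le (fun x hx => hzW x (Subgroup.mem_centralizer_singleton_iff.2
      (congrArg Subtype.val (Subgroup.mem_centralizer_singleton_iff.1 hx)))) ?_
    have hodd : ∀ x ∈ Cfsg.oddCore ↥D, Odd (orderOf x) := H66.odd_orderOf_of_mem_odd_card
      (Nat.coprime_two_right.1 (H1.card_pPrimeCore_coprime 2 ↥D))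
    have hnor : (Cfsg.oddCore ↥D).Normal := H1.pPrimeCore_normal' 2 ↥D
    refine H66.le_of_centralizers_fourGroup (u := ⟨a, hmem (hWe (Or.inr (Or.inl rfl)))⟩)
      (v := ⟨b, hmem (hWe (Or.inr (Or.inr (Or.inl rfl))))⟩) hodd (Subtype.ext S.a_sq)
      (Subtype.ext S.b_sq) (Subtype.ext S.ab_comm.eq) (fun x hx => hnor.conj_mem x hx _)
      (fun x hx => hnor.conj_mem x hx _) ?_ ?_ ?_ <;> intro x _ hx
    · exact hce a (Or.inl rfl) x (congrArg Subtype.val hx.eq)
    · exact hce b (Or.inr (Or.inl rfl)) x (congrArg Subtype.val hx.eq)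
    · exact hce (a * b) (Or.inr (Or.inr rfl)) x (congrArg Subtype.val hx.eq)
  -- every conjugate of `a` lies in `W`
  have hall : ∀ g, InW a b (g * a * g⁻¹) := by
    intro g
    set u := g * a * g⁻¹ with hu
    have hu2 : u * u = 1 := hself g
    have hui : u⁻¹ = u := inv_eq_of_mul_eq_one_right hu2
    have hzi : z⁻¹ = z := inv_eq_of_mul_eq_one_right S.sq
    rcases Nat.even_or_odd (orderOf (z * u)) with ⟨m, hm⟩ | hodd
    swap
    · obtain ⟨r, hr⟩ := exists_conj_of_odd S.sq hu2 hodd
      refine absurd (IsConj.symm (isConj_iff.2 ⟨r * g, ?_⟩)) (hfus.z_a a (Or.inl rfl))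
      rw [← hr, hu]; group
    have hpos : 0 < orderOf (z * u) := orderOf_pos _
    set t := (z * u) ^ m with ht
    have htt : t * t = 1 := by rw [ht, ← pow_add, ← hm, pow_orderOf_eq_one]
    have hti : t⁻¹ = t := inv_eq_of_mul_eq_one_right htt
    have ht1 : t ≠ 1 := pow_ne_one_of_lt_orderOf (by omega) (by omega)
    have hzinv : z * (z * u) * z⁻¹ = (z * u)⁻¹ := by
      rw [mul_inv_rev, hui, hzi, ← mul_assoc, ← mul_assoc, S.sq, one_mul]
    have huinv : u * (z * u) * u⁻¹ = (z * u)⁻¹ := by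
      rw [mul_inv_rev z u, mul_assoc u (z * u) u⁻¹, mul_assoc z u u⁻¹, mul_inv_cancel, mul_one,
        hzi, hui]
    have hpowz : ∀ j : ℕ, z * (z * u) ^ j * z⁻¹ = ((z * u) ^ j)⁻¹ := fun j =>
      H66.inverted_of_mem_zpowers hzinv (pow_mem (Subgroup.mem_zpowers _) _)
    have hpowu : ∀ j : ℕ, u * (z * u) ^ j * u⁻¹ = ((z * u) ^ j)⁻¹ := fun j =>
      H66.inverted_of_mem_zpowers huinv (pow_mem (Subgroup.mem_zpowers _) _)
    have hzt : Commute z t := mul_inv_eq_iff_eq_mul.1 ((hpowz m).trans hti)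
    have hut : Commute u t := mul_inv_eq_iff_eq_mul.1 ((hpowu m).trans hti)
    rcases Nat.even_or_odd m with ⟨l, hl⟩ | ⟨l, hl⟩
    · -- `t` is a conjugate of `a`
      set s := (z * u) ^ l with hs
      have hss : s * s = t := by rw [hs, ← pow_add, ← hl]
      have hsu : s * u * s⁻¹ = t * u := by
        rw [← hpowu l, ← hs, ← hss, hui]
        calc s * u * (u * s * u) = s * (u * u) * s * u := by group
          _ = s * s * u := by rw [hu2, mul_one]
      have h1 : InW a b (g⁻¹ * (t * u) * g) := by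
        have h2 := htwo (g⁻¹ * s * g) a (Or.inl rfl)
        rw [show g⁻¹ * s * g * a * (g⁻¹ * s * g)⁻¹ = g⁻¹ * (s * u * s⁻¹) * g by rw [hu]; group,
          hsu] at h2
        refine h2 ?_
        have h3 : Commute (t * u) u := hut.symm.mul_left (Commute.refl u)
        have := h3.map (MulAut.conj g⁻¹).toMonoidHom
        simpa [hu, mul_assoc] using this
      have h4 : InW a b (g⁻¹ * t * g) := by
        have := (fourW S.a_sq S.b_sq S.ab_comm).mul_mem h1 (Or.inr (Or.inl rfl))
        rwa [show g⁻¹ * (t * u) * g * a = g⁻¹ * t * g * (a * a) by rw [hu]; group, S.a_sq,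
          mul_one] at this
      have h5 : IsA a b (g⁻¹ * t * g) := isA_of_inW h4 fun h => ht1 <| by
        calc t = g * (g⁻¹ * t * g) * g⁻¹ := by group
          _ = 1 := by rw [h]; group
      obtain ⟨x, -, hx⟩ := exists_rot S h5
      have h6 : t = g * x * a * (g * x)⁻¹ := by
        rw [show g * x * a * (g * x)⁻¹ = g * (x * a * x⁻¹) * g⁻¹ by group, hx]; group
      have h7 : InW a b t := by
        rw [h6]; refine hone _ ?_
        rw [← h6]; exact hzt.symm
      exact htwo g t (isA_of_inW h7 ht1) hut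
    · -- `z t` is a conjugate of `a`
      have h1 : Odd (orderOf (z * t * u)) := by
        have h2 : z * t * u = ((z * u) ^ 2) ^ (l + 1) := by
          rw [← pow_mul, hzt.eq, mul_assoc, ht, ← pow_succ, hl]
          congr 1
        rw [h2]
        refine H66.odd_orderOf_of_mem_zpowers ?_ (pow_mem (Subgroup.mem_zpowers _) _)
        rw [orderOf_pow_of_dvd two_ne_zero ⟨m, by omega⟩, hm, show (m + m) / 2 = m by omega]
        exact ⟨l, by omega⟩
      have hztsq : z * t * (z * t) = 1 := by
        rw [hzt.symm.mul_mul_mul_comm, S.sq, htt, one_mul]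
      obtain ⟨r, hr⟩ := exists_conj_of_odd hztsq hu2 h1
      have h6 : z * t = r * g * a * (r * g)⁻¹ := by rw [← hr, hu]; group
      have h7 : InW a b (z * t) := by
        rw [h6]; refine hone _ ?_
        rw [← h6]; exact (Commute.refl z).mul_left hzt.symm
      have h8 : IsA a b (z * t) := isA_of_inW h7 fun h => hne (r * g) (h6 ▸ h)
      have h9 : z * t * z = t := by rw [hzt.eq, mul_assoc, S.sq, mul_one]
      obtain ⟨k, hk1, hk2⟩ := hfus.sylow t u (Or.inr (by rwa [← hzt.eq])) hu2 hut
      have hk3 : k ∈ N := hcd _ h8 k (by rw [h9]; exact hk1)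
      refine hback k _ hk3 ?_
      rw [show k * u * k⁻¹ = (k * g) * a * (k * g)⁻¹ by rw [hu]; group] at hk2 ⊢
      exact hone _ hk2
  intro g w hw
  have hgb : InW a b (g * b * g⁻¹) := by
    have := hall (g * c)
    rwa [show g * c * a * (g * c)⁻¹ = g * (c * a * c⁻¹) * g⁻¹ by group, S.c_a] at this
  rcases hw with rfl | rfl | rfl | rfl
  · exact Or.inl (by group)
  · exact hall g
  · exact hgb
  · rw [show g * (a * b) * g⁻¹ = (g * a * g⁻¹) * (g * b * g⁻¹) by group]
    exact (fourW S.a_sq S.b_sq S.ab_comm).mul_mem (hall g) hgb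

end H66.Fi23C
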